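import Groth.Agent.FpqcDescent.Sep
import Mathlib.AlgebraicGeometry.Morphisms.Immersion
import Mathlib.AlgebraicGeometry.Morphisms.UniversallyOpen

/-! # fpqc descent of quasi-compact immersions -/

universe u

open CategoryTheory AlgebraicGeometry Limits MorphismProperty

namespace Groth.Agent.FpqcDescent

/-- the closure of the image of a quasi-compact morphism consists of specializations of image points -/
theorem exists_specializes_of_mem_closure {Y Z : Scheme.{u}} (g : Y ⟶ Z) [QuasiCompact g] {x : Z}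
    (hx : x ∈ closure (Set.range g)) : ∃ y, g y ⤳ x := by
  obtain ⟨W, hW, hxW, -⟩ := exists_isAffineOpen_mem_and_subset (U := ⊤) (show x ∈ (⊤ : Z.Opens) from trivial)
  have : CompactSpace (g ⁻¹ᵁ W).toScheme := isCompact_iff_compactSpace.mp
    (QuasiCompact.isCompact_preimage (f := g) _ W.2 hW.isCompact)
  obtain ⟨R, c, hc⟩ := compactSpace_iff_exists.mp ‹CompactSpace (g ⁻¹ᵁ W).toScheme›
  have hrW : Set.range (c ≫ (g ⁻¹ᵁ W).ι ≫ g) ⊆ Set.range hW.fromSpec := by
    rw [hW.range_fromSpec]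
    rintro _ ⟨t, rfl⟩
    exact (c t).2
  obtain ⟨φ, hφ⟩ := Spec.map_surjective (IsOpenImmersion.lift hW.fromSpec _ hrW)
  have hfac : Spec.map φ ≫ hW.fromSpec = c ≫ (g ⁻¹ᵁ W).ι ≫ g := by
    rw [hφ, IsOpenImmersion.lift_fac]
  obtain ⟨x', rfl⟩ : x ∈ Set.range hW.fromSpec := by rw [hW.range_fromSpec]; exact hxW
  have hx' : x' ∈ closure (Set.range (Spec.map φ)) := by
    have h1 : hW.fromSpec ⁻¹' Set.range g ⊆ Set.range (Spec.map φ) := by
      rintro w ⟨y, hy⟩
      have hyW : y ∈ g ⁻¹ᵁ W := by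
        change g y ∈ W
        rw [hy, ← SetLike.mem_coe, ← hW.range_fromSpec]; exact ⟨w, rfl⟩
      obtain ⟨t, ht⟩ := hc ⟨y, hyW⟩
      refine ⟨t, hW.fromSpec.isOpenEmbedding.injective ?_⟩
      rw [← Scheme.Hom.comp_apply, hfac, Scheme.Hom.comp_apply, ht]
      exact hy
    exact closure_mono h1
      (hW.fromSpec.isOpenEmbedding.isOpenMap.preimage_closure_eq_closure_preimage
        hW.fromSpec.continuous _ ▸ hx)
  change x' ∈ closure (Set.range (PrimeSpectrum.comap φ.hom)) at hx'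
  rw [PrimeSpectrum.closure_range_comap] at hx'
  have : x'.asIdeal.IsPrime := x'.isPrime
  obtain ⟨q, hq, hqle⟩ := Ideal.exists_minimalPrimes_le (J := x'.asIdeal) hx'
  obtain ⟨P, hP, -, hPq⟩ := Ideal.exists_comap_eq_of_mem_minimalPrimes φ.hom (I := ⊥) q
    (by rw [← RingHom.ker_eq_comap_bot]; exact hq)
  refine ⟨((g ⁻¹ᵁ W).ι (c ⟨P, hP⟩)), ?_⟩
  have hsp : (Spec.map φ ⟨P, hP⟩) ⤳ x' := by
    refine (PrimeSpectrum.le_iff_specializes _ _).mp ?_
    change P.comap φ.hom ≤ x'.asIdeal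
    rw [hPq]
    exact hqle
  have := hsp.map hW.fromSpec.continuous
  have e : hW.fromSpec (Spec.map φ ⟨P, hP⟩) = g ((g ⁻¹ᵁ W).ι (c ⟨P, hP⟩)) := congr($hfac ⟨P, hP⟩)
  exact e ▸ this

set_option backward.isDefEq.respectTransparency.types false in
instance descendsAlong_isImmersion_quasiCompact : DescendsAlong
    (@IsImmersion ⊓ @QuasiCompact : MorphismProperty Scheme.{u})
    (@Surjective ⊓ @Flat ⊓ @QuasiCompact : MorphismProperty Scheme.{u}) := by
  refine ⟨fun {A X Y Z fst snd f g} h hf hfst ↦ ?_⟩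
  obtain ⟨hI, hq⟩ := hfst
  have hg : QuasiCompact g := of_isPullback_of_descendsAlong h hf hq
  have hm : monomorphisms Scheme.{u} fst := inferInstanceAs (Mono fst)
  have : Mono g := of_isPullback_of_descendsAlong h hf hm
  obtain ⟨⟨hf₁, hf₂⟩, hf₃⟩ := id hf
  have : QuasiCompact fst := hq
  have hr : Set.range fst = f ⁻¹' Set.range g := by
    ext w
    constructor
    · rintro ⟨a, rfl⟩
      exact ⟨snd a, by rw [← Scheme.Hom.comp_apply, ← h.w, Scheme.Hom.comp_apply]⟩
    · rintro ⟨y, hy⟩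
      obtain ⟨a, ha, -⟩ := Scheme.exists_preimage_of_isPullback h w y hy.symm
      exact ⟨a, ha⟩
  have hcl : f ⁻¹' closure (Set.range g) = closure (Set.range fst) := by
    refine Set.Subset.antisymm (fun w hw ↦ ?_) (hr ▸ f.continuous.closure_preimage_subset _)
    obtain ⟨y, hy⟩ := exists_specializes_of_mem_closure g hw
    obtain ⟨w', hw', e⟩ := (Flat.generalizingMap f) hy
    exact hw'.mem_closed isClosed_closure (subset_closure (hr ▸ ⟨y, e.symm⟩))
  have hT : IsClosed (closure (Set.range g) \ Set.range g) := by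
    rw [← (Flat.isQuotientMap_of_surjective f).isClosed_preimage, Set.preimage_sdiff, hcl, ← hr]
    rw [show closure (Set.range fst) \ Set.range fst = (coborder (Set.range fst))ᶜ from (compl_compl _).symm]
    exact fst.isLocallyClosed_range.isOpen_coborder.isClosed_compl
  let U : Z.Opens := ⟨_, hT.isOpen_compl⟩
  have hgU : Set.range g ⊆ Set.range U.ι := by
    rw [Scheme.Opens.range_ι]
    rintro _ ⟨y, rfl⟩ hy
    exact hy.2 ⟨y, rfl⟩
  let g₀ := IsOpenImmersion.lift U.ι g hgU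
  have hg₀ : g₀ ≫ U.ι = g := IsOpenImmersion.lift_fac _ _ _
  have hfU : Set.range fst ⊆ Set.range (f ⁻¹ᵁ U).ι := by
    rw [Scheme.Opens.range_ι]
    rintro _ ⟨a, rfl⟩
    change f (fst a) ∈ (U : Set Z)
    rw [← Scheme.Hom.comp_apply, h.w, Scheme.Hom.comp_apply]
    exact fun hy ↦ hy.2 ⟨_, rfl⟩
  let fst₀ := IsOpenImmersion.lift (f ⁻¹ᵁ U).ι fst hfU
  have hfst₀ : fst₀ ≫ (f ⁻¹ᵁ U).ι = fst := IsOpenImmersion.lift_fac _ _ _
  have hsq : IsPullback fst₀ snd (f ∣_ U) g₀ := by
    refine IsPullback.of_right (h₁₁ := fst₀) (h₁₂ := (f ⁻¹ᵁ U).ι) ?_ ?_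
      (isPullback_morphismRestrict f U).flip |>.flip.flip
    · rw [hfst₀, hg₀]; exact h
    · rw [← cancel_mono U.ι, Category.assoc, Category.assoc, hg₀, morphismRestrict_ι,
        reassoc_of% hfst₀, h.w]
  have : IsImmersion (fst₀ ≫ (f ⁻¹ᵁ U).ι) := hfst₀ ▸ hI
  have : IsImmersion fst₀ := .of_comp fst₀ (f ⁻¹ᵁ U).ι
  have hc₀ : IsClosedImmersion fst₀ := by
    refine .of_isPreimmersion _ ?_
    have : Set.range fst₀ = (f ⁻¹ᵁ U).ι ⁻¹' closure (Set.range fst) := by
      ext w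
      constructor
      · rintro ⟨a, rfl⟩
        rw [Set.mem_preimage, ← Scheme.Hom.comp_apply, hfst₀]
        exact subset_closure ⟨a, rfl⟩
      · intro hw
        have hw' : w.1 ∈ Set.range fst := by
          by_contra hn
          exact (w.2 : f w.1 ∈ (U : Set Z)) ⟨by rw [← Set.mem_preimage, hcl]; exact hw,
            fun hy ↦ hn (hr ▸ hy)⟩
        obtain ⟨a, ha⟩ := hw'
        exact ⟨a, Subtype.ext (by rw [← ha]; exact congr($hfst₀ a))⟩
    rw [this]
    exact isClosed_closure.preimage (f ⁻¹ᵁ U).ι.continuous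
  have hQ : (@Surjective ⊓ @Flat ⊓ @QuasiCompact : MorphismProperty Scheme.{u}) (f ∣_ U) :=
    MorphismProperty.of_isPullback (isPullback_morphismRestrict f U).flip hf
  have : IsClosedImmersion g₀ := of_isPullback_of_descendsAlong hsq hQ hc₀
  exact ⟨hg₀ ▸ inferInstanceAs (IsImmersion (g₀ ≫ U.ι)), hg⟩

set_option backward.isDefEq.respectTransparency.types false in
instance descendsAlong_isImmersion_fppf : DescendsAlong
    (@IsImmersion : MorphismProperty Scheme.{u})
    (@Surjective ⊓ @Flat ⊓ @LocallyOfFinitePresentation : MorphismProperty Scheme.{u}) := by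
  refine ⟨fun {A X Y Z fst snd f g} h hf hfst ↦ ?_⟩
  have hI : IsImmersion fst := hfst
  have hm : monomorphisms Scheme.{u} fst := inferInstanceAs (Mono fst)
  have : Mono g := of_isPullback_of_descendsAlong h hf hm
  obtain ⟨⟨hf₁, hf₂⟩, hf₃⟩ := id hf
  have hr : Set.range fst = f ⁻¹' Set.range g := by
    ext w
    constructor
    · rintro ⟨a, rfl⟩
      exact ⟨snd a, by rw [← Scheme.Hom.comp_apply, ← h.w, Scheme.Hom.comp_apply]⟩
    · rintro ⟨y, hy⟩
      obtain ⟨a, ha, -⟩ := Scheme.exists_preimage_of_isPullback h w y hy.symm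
      exact ⟨a, ha⟩
  have hcl : f ⁻¹' closure (Set.range g) = closure (Set.range fst) := by
    rw [hr]
    exact f.isOpenMap.preimage_closure_eq_closure_preimage f.continuous _
  have hT : IsClosed (closure (Set.range g) \ Set.range g) := by
    rw [← (f.isOpenMap.isQuotientMap f.continuous f.surjective).isClosed_preimage, Set.preimage_sdiff, hcl, ← hr]
    rw [show closure (Set.range fst) \ Set.range fst = (coborder (Set.range fst))ᶜ from (compl_compl _).symm]
    exact fst.isLocallyClosed_range.isOpen_coborder.isClosed_compl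
  let U : Z.Opens := ⟨_, hT.isOpen_compl⟩
  have hgU : Set.range g ⊆ Set.range U.ι := by
    rw [Scheme.Opens.range_ι]
    rintro _ ⟨y, rfl⟩ hy
    exact hy.2 ⟨y, rfl⟩
  let g₀ := IsOpenImmersion.lift U.ι g hgU
  have hg₀ : g₀ ≫ U.ι = g := IsOpenImmersion.lift_fac _ _ _
  have hfU : Set.range fst ⊆ Set.range (f ⁻¹ᵁ U).ι := by
    rw [Scheme.Opens.range_ι]
    rintro _ ⟨a, rfl⟩
    change f (fst a) ∈ (U : Set Z)
    rw [← Scheme.Hom.comp_apply, h.w, Scheme.Hom.comp_apply]
    exact fun hy ↦ hy.2 ⟨_, rfl⟩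
  let fst₀ := IsOpenImmersion.lift (f ⁻¹ᵁ U).ι fst hfU
  have hfst₀ : fst₀ ≫ (f ⁻¹ᵁ U).ι = fst := IsOpenImmersion.lift_fac _ _ _
  have hsq : IsPullback fst₀ snd (f ∣_ U) g₀ := by
    refine IsPullback.of_right (h₁₁ := fst₀) (h₁₂ := (f ⁻¹ᵁ U).ι) ?_ ?_
      (isPullback_morphismRestrict f U).flip |>.flip.flip
    · rw [hfst₀, hg₀]; exact h
    · rw [← cancel_mono U.ι, Category.assoc, Category.assoc, hg₀, morphismRestrict_ι,
        reassoc_of% hfst₀, h.w]
  have : IsImmersion (fst₀ ≫ (f ⁻¹ᵁ U).ι) := hfst₀ ▸ hI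
  have : IsImmersion fst₀ := .of_comp fst₀ (f ⁻¹ᵁ U).ι
  have hc₀ : IsClosedImmersion fst₀ := by
    refine .of_isPreimmersion _ ?_
    have : Set.range fst₀ = (f ⁻¹ᵁ U).ι ⁻¹' closure (Set.range fst) := by
      ext w
      constructor
      · rintro ⟨a, rfl⟩
        rw [Set.mem_preimage, ← Scheme.Hom.comp_apply, hfst₀]
        exact subset_closure ⟨a, rfl⟩
      · intro hw
        have hw' : w.1 ∈ Set.range fst := by
          by_contra hn
          exact (w.2 : f w.1 ∈ (U : Set Z)) ⟨by rw [← Set.mem_preimage, hcl]; exact hw,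
            fun hy ↦ hn (hr ▸ hy)⟩
        obtain ⟨a, ha⟩ := hw'
        exact ⟨a, Subtype.ext (by rw [← ha]; exact congr($hfst₀ a))⟩
    rw [this]
    exact isClosed_closure.preimage (f ⁻¹ᵁ U).ι.continuous
  have hQ : (@Surjective ⊓ @Flat ⊓ @LocallyOfFinitePresentation : MorphismProperty Scheme.{u}) (f ∣_ U) :=
    MorphismProperty.of_isPullback (isPullback_morphismRestrict f U).flip hf
  have : IsClosedImmersion g₀ := of_isPullback_of_descendsAlong hsq hQ hc₀
  exact hg₀ ▸ inferInstanceAs (IsImmersion (g₀ ≫ U.ι))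


end Groth.Agent.FpqcDescent
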