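import Mathlib.AlgebraicGeometry.Morphisms.FlatDescent
import Mathlib.AlgebraicGeometry.Morphisms.Flat
import Mathlib.AlgebraicGeometry.Morphisms.QuasiSeparated
import Mathlib.AlgebraicGeometry.Morphisms.Affine
import Mathlib.AlgebraicGeometry.Sites.Fpqc
import Mathlib.AlgebraicGeometry.Morphisms.Separated
import Groth.Agent.S5132

/-! # fpqc descent of affine and flat morphisms, and reduction of fpqc coverings -/

universe u

open CategoryTheory AlgebraicGeometry Limits MorphismProperty

namespace Groth.Agent.FpqcDescent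

theorem flat_codescendsAlong_faithfullyFlat :
    RingHom.CodescendsAlong RingHom.Flat RingHom.FaithfullyFlat := by
  apply RingHom.CodescendsAlong.mk _ RingHom.Flat.respectsIso
  introv h H
  rw [RingHom.faithfullyFlat_algebraMap_iff] at h
  rw [RingHom.flat_algebraMap_iff] at H ⊢
  exact Module.Flat.of_flat_tensorProduct R T S

instance descendsAlong_flat :
    DescendsAlong @Flat (@Surjective ⊓ @Flat ⊓ @QuasiCompact) :=
  HasRingHomProperty.descendsAlong_flat flat_codescendsAlong_faithfullyFlat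

set_option backward.isDefEq.respectTransparency.types false in
instance descendsAlong_quasiCompact :
    DescendsAlong (@QuasiCompact : MorphismProperty Scheme.{u}) (@Surjective ⊓ @Flat ⊓ @QuasiCompact : MorphismProperty Scheme.{u}) := by
  have := Groth.Agent.S5132.result.{u}
  exact .of_le (Q := (@Surjective ⊓ @QuasiCompact : MorphismProperty Scheme.{u}))
    (inf_le_inf inf_le_left le_rfl)

set_option backward.isDefEq.respectTransparency.types false in
instance descendsAlong_quasiSeparated :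
    DescendsAlong @QuasiSeparated (@Surjective ⊓ @Flat ⊓ @QuasiCompact : MorphismProperty Scheme.{u}) := by
  rw [quasiSeparated_eq_diagonal_is_quasiCompact]
  infer_instance

set_option backward.isDefEq.respectTransparency.types false in
lemma isAffine_of_pullback {R S : CommRingCat.{u}} {Y : Scheme.{u}} (φ : R ⟶ S) (g : Y ⟶ Spec R)
    (h₁ : Surjective (Spec.map φ)) [Flat (Spec.map φ)] [IsAffineHom (pullback.fst (Spec.map φ) g)] :
    IsAffine Y := by
  have hf : (@Surjective ⊓ @Flat ⊓ @QuasiCompact : MorphismProperty Scheme.{u}) (Spec.map φ) :=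
    ⟨⟨h₁, inferInstance⟩, inferInstance⟩
  have : QuasiCompact g := MorphismProperty.of_pullback_fst_of_descendsAlong hf
    (inferInstanceAs (QuasiCompact (pullback.fst (Spec.map φ) g)))
  have : QuasiSeparated g := MorphismProperty.of_pullback_fst_of_descendsAlong hf
    (inferInstanceAs (QuasiSeparated (pullback.fst (Spec.map φ) g)))
  have : IsAffine (pullback (Spec.map φ) g) := isAffine_of_isAffineHom (pullback.fst (Spec.map φ) g)
  have : CompactSpace Y := (quasiCompact_iff_compactSpace g).mp ‹_›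
  have : QuasiSeparatedSpace Y := quasiSeparatedSpace_of_quasiSeparated g
  let a := Y.toSpecΓ
  let b : Spec Γ(Y, ⊤) ⟶ Spec R := Spec.map ((Scheme.ΓSpecIso R).inv ≫ g.appTop)
  have hab : a ≫ b = g := by
    simp only [a, b, Spec.map_comp, ← Scheme.toSpecΓ_naturality_assoc]
    simp
  -- comparison over `Spec S`
  let c : pullback (Spec.map φ) g ⟶ pullback (Spec.map φ) b :=
    pullback.lift (pullback.fst _ _) (pullback.snd _ _ ≫ a)
      (by rw [Category.assoc, hab, pullback.condition])
  have hP := isPushout_appTop_of_isPullback (IsPullback.of_hasPullback (Spec.map φ) b).flip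
  have hY : IsPushout g.appTop (Spec.map φ).appTop (pullback.snd (Spec.map φ) g).appTop
      (pullback.fst (Spec.map φ) g).appTop := by
    have hi := isIso_pushoutSection_of_isQuasiSeparated_of_flat_right
      (IsPullback.of_hasPullback (Spec.map φ) g).flip (US := ⊤) (UT := ⊤) (UX := ⊤) (UY := ⊤)
      (le_of_eq rfl) (le_of_eq rfl) (by simp) (isAffineOpen_top _) (isAffineOpen_top _)
      isCompact_univ isQuasiSeparated_univ
    have := (isIso_pushoutSection_iff ..).mp hi
    simp only [Scheme.Hom.appTop, Scheme.Hom.app_eq_appLE]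
    exact this
  have : IsIso a.appTop := by
    simp only [a, Scheme.toSpecΓ_appTop]
    infer_instance
  have hY' : IsPushout b.appTop (Spec.map φ).appTop
      (a.appTop ≫ (pullback.snd (Spec.map φ) g).appTop) (pullback.fst (Spec.map φ) g).appTop :=
    IsPushout.of_iso hY (Iso.refl _) (asIso a.appTop).symm (Iso.refl _) (Iso.refl _)
      (by simp only [Iso.refl_hom, Category.id_comp, Iso.symm_hom, asIso_inv, IsIso.comp_inv_eq]
          rw [← Scheme.Hom.comp_appTop, hab])
      (by simp) (by simp) (by simp)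
  have : IsIso c.appTop := by
    have : c.appTop = (hP.isoIsPushout _ _ hY').hom := by
      apply hP.hom_ext
      · rw [IsPushout.inl_isoIsPushout_hom, ← Scheme.Hom.comp_appTop, ← Scheme.Hom.comp_appTop,
          pullback.lift_snd]
      · rw [IsPushout.inr_isoIsPushout_hom, ← Scheme.Hom.comp_appTop, pullback.lift_fst]
    rw [this]
    infer_instance
  have : IsIso c := by
    have : IsIso (Spec.map c.appTop) := inferInstance
    have h := Scheme.isoSpec_hom_naturality c
    have : IsIso (c ≫ (Scheme.isoSpec (pullback (Spec.map φ) b)).hom) := by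
      rw [← h]; infer_instance
    exact IsIso.of_isIso_comp_right c (Scheme.isoSpec (pullback (Spec.map φ) b)).hom
  have hsq : IsPullback (pullback.snd (Spec.map φ) g) c a (pullback.snd (Spec.map φ) b) := by
    refine IsPullback.of_bot (h₂₁ := pullback.snd (Spec.map φ) b) ?_ (pullback.lift_snd _ _ _).symm
      (IsPullback.of_hasPullback (Spec.map φ) b).flip
    simp only [c, pullback.lift_fst, hab]
    exact (IsPullback.of_hasPullback (Spec.map φ) g).flip
  have : IsIso a := by
    refine MorphismProperty.of_isPullback_of_descendsAlong (P := isomorphisms Scheme.{u})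
      (Q := (@Surjective ⊓ @Flat ⊓ @QuasiCompact : MorphismProperty Scheme.{u})) hsq.flip ?_ this
    exact MorphismProperty.pullback_snd _ _ hf
  exact .of_isIso a

set_option backward.isDefEq.respectTransparency.types false in
instance descendsAlong_isAffineHom :
    DescendsAlong @IsAffineHom (@Surjective ⊓ @Flat ⊓ @QuasiCompact : MorphismProperty Scheme.{u}) := by
  apply IsZariskiLocalAtTarget.descendsAlong_inf_quasiCompact
  · rw [inf_comm]
    exact inf_le_inf le_rfl (IsLocalIso.le_of_isZariskiLocalAtSource _)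
  intro R S Y φ g ⟨h₁, h₂⟩ hfst
  have := isAffine_of_pullback φ g h₁
  exact isAffineHom_of_isAffine g

set_option backward.isDefEq.respectTransparency.types false in
/-- to prove a property which is local at the target and descends along fpqc morphisms, an fpqc
covering of the target suffices -/
theorem of_fpqcPrecoverage (P : MorphismProperty Scheme.{u}) [IsZariskiLocalAtTarget P]
    [P.DescendsAlong (@Surjective ⊓ @Flat ⊓ @QuasiCompact)]
    {X S : Scheme.{u}} (g : X ⟶ S) {R : Presieve S} (hR : R ∈ Scheme.fpqcPrecoverage S)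
    (h : ∀ ⦃S' : Scheme.{u}⦄ (f : S' ⟶ S), R f → P (pullback.snd g f)) : P g := by
  obtain ⟨𝒰, hqc, rfl⟩ := Scheme.mem_propQCPrecoverage_iff_exists_quasiCompactCover.mp hR
  have hP : ∀ i, P (pullback.snd g (𝒰.f i)) := fun i ↦ h _ (Presieve.ofArrows.mk i)
  rw [IsZariskiLocalAtTarget.iff_of_iSup_eq_top (P := P) _ (iSup_affineOpens_eq_top S)]
  intro U
  obtain ⟨n, idx, V, hV, hcov⟩ := QuasiCompactCover.exists_isAffineOpen_of_isCompact
    𝒰.toPreZeroHypercover U.2.isCompact
  have hle : ∀ j, Set.range ((V j).ι ≫ 𝒰.f (idx j)) ⊆ Set.range U.1.ι := fun j ↦ by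
    rintro _ ⟨x, rfl⟩
    rw [Scheme.Opens.range_ι, ← hcov]
    exact Set.mem_iUnion.mpr ⟨j, x.1, x.2, rfl⟩
  let k : ∀ j, (V j).toScheme ⟶ U.1.toScheme := fun j ↦
    IsOpenImmersion.lift U.1.ι ((V j).ι ≫ 𝒰.f (idx j)) (hle j)
  let q := Sigma.desc k
  have : ∀ j, IsAffine (V j).toScheme := hV
  have : IsAffine U.1.toScheme := U.2
  have hq : (@Surjective ⊓ @Flat ⊓ @QuasiCompact : MorphismProperty Scheme.{u}) q := by
    refine ⟨⟨⟨fun x ↦ ?_⟩, ?_⟩, inferInstance⟩
    · obtain ⟨j, y, hy, he⟩ := Set.mem_iUnion.mp (hcov.ge x.2)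
      refine ⟨Sigma.ι (fun j ↦ (V j).toScheme) j ⟨y, hy⟩, U.1.ι.injective ?_⟩
      rw [← Scheme.Hom.comp_apply, ← Scheme.Hom.comp_apply, Sigma.ι_desc_assoc,
        IsOpenImmersion.lift_fac]
      exact he
    · rw [IsZariskiLocalAtSource.iff_of_openCover (P := @Flat) (sigmaOpenCover _)]
      intro j
      have : Flat (𝒰.f (idx j)) := 𝒰.map_prop _
      have : Flat (k j ≫ U.1.ι) := by rw [IsOpenImmersion.lift_fac]; infer_instance
      change Flat (Sigma.ι (fun j => (V j).toScheme) j ≫ q)
      rw [Sigma.ι_desc]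
      exact MorphismProperty.of_postcomp (W := @Flat)
        (W' := MorphismProperty.monomorphisms Scheme.{u}) (k j) U.1.ι (inferInstance : Mono U.1.ι)
        (inferInstanceAs (Flat (k j ≫ U.1.ι)))
  refine MorphismProperty.of_pullback_snd_of_descendsAlong (f := g ∣_ U.1) (g := q) hq ?_
  rw [IsZariskiLocalAtTarget.iff_of_openCover (P := P) (sigmaOpenCover _)]
  intro j
  rw [Scheme.Cover.pullbackHom, ← pullbackLeftPullbackSndIso_hom_snd (g ∣_ U.1) q _]
  refine (P.cancel_left_of_respectsIso _ _).mpr ?_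
  change P (pullback.snd (g ∣_ U.1) (Sigma.ι (fun j => (V j).toScheme) j ≫ q))
  rw [Sigma.ι_desc]
  have h1 : IsPullback (pullback.fst (g ∣_ U.1) (k j) ≫ (g ⁻¹ᵁ U.1).ι)
      (pullback.snd (g ∣_ U.1) (k j)) g ((V j).ι ≫ 𝒰.f (idx j)) := by
    rw [← IsOpenImmersion.lift_fac U.1.ι ((V j).ι ≫ 𝒰.f (idx j)) (hle j)]
    exact (IsPullback.of_hasPullback _ _).paste_horiz (isPullback_morphismRestrict g U.1).flip
  rw [← h1.isoPullback_hom_snd]
  refine (P.cancel_left_of_respectsIso _ _).mpr ?_
  refine (P.cancel_left_of_respectsIso (pullbackLeftPullbackSndIso g (𝒰.f (idx j)) (V j).ι).hom _).mp ?_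
  rw [pullbackLeftPullbackSndIso_hom_snd]
  exact IsZariskiLocalAtTarget.of_isPullback (IsPullback.of_hasPullback _ (V j).ι) (hP (idx j))

set_option backward.isDefEq.respectTransparency.types false in
theorem exists_fpqc_cover_affineOpen {S : Scheme.{u}} (𝒰 : Scheme.Cover.{u + 1} (Scheme.precoverage @Flat) S)
    (hqc : QuasiCompactCover 𝒰.toPreZeroHypercover) (U : S.affineOpens) (A : Set S)
    (h : ∀ i, IsOpen ((𝒰.f i) ⁻¹' A)) :
    ∃ (W : Scheme.{u}) (q : W ⟶ U.1.toScheme),
      (@Surjective ⊓ @Flat ⊓ @QuasiCompact : MorphismProperty Scheme.{u}) q ∧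
        IsOpen (q ⁻¹' (U.1.ι ⁻¹' A)) := by
  obtain ⟨n, idx, V, hV, hcov⟩ := QuasiCompactCover.exists_isAffineOpen_of_isCompact
    𝒰.toPreZeroHypercover U.2.isCompact
  have hle : ∀ j, Set.range ((V j).ι ≫ 𝒰.f (idx j)) ⊆ Set.range U.1.ι := fun j ↦ by
    rintro _ ⟨x, rfl⟩
    rw [Scheme.Opens.range_ι, ← hcov]
    exact Set.mem_iUnion.mpr ⟨j, x.1, x.2, rfl⟩
  let k : ∀ j, (V j).toScheme ⟶ U.1.toScheme := fun j ↦
    IsOpenImmersion.lift U.1.ι ((V j).ι ≫ 𝒰.f (idx j)) (hle j)
  let q := Sigma.desc k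
  have : ∀ j, IsAffine (V j).toScheme := hV
  have : IsAffine U.1.toScheme := U.2
  refine ⟨_, q, ⟨⟨⟨fun x ↦ ?_⟩, ?_⟩, inferInstance⟩, ?_⟩
  · obtain ⟨j, y, hy, he⟩ := Set.mem_iUnion.mp (hcov.ge x.2)
    refine ⟨Sigma.ι (fun j ↦ (V j).toScheme) j ⟨y, hy⟩, U.1.ι.injective ?_⟩
    rw [← Scheme.Hom.comp_apply, ← Scheme.Hom.comp_apply, Sigma.ι_desc_assoc,
      IsOpenImmersion.lift_fac]
    exact he
  · rw [IsZariskiLocalAtSource.iff_of_openCover (P := @Flat) (sigmaOpenCover _)]
    intro j
    have : Flat (𝒰.f (idx j)) := 𝒰.map_prop _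
    have : Flat (k j ≫ U.1.ι) := by rw [IsOpenImmersion.lift_fac]; infer_instance
    change Flat (Sigma.ι (fun j => (V j).toScheme) j ≫ q)
    rw [Sigma.ι_desc]
    exact MorphismProperty.of_postcomp (W := @Flat)
      (W' := MorphismProperty.monomorphisms Scheme.{u}) (k j) U.1.ι (inferInstance : Mono U.1.ι)
      (inferInstanceAs (Flat (k j ≫ U.1.ι)))
  · rw [(sigmaOpenCover (fun j => (V j).toScheme)).isOpenCover_opensRange.isOpen_iff_inter]
    intro j
    have h1 := (h (idx j)).preimage (V j).ι.continuous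
    have h2 : q ⁻¹' (U.1.ι ⁻¹' A) ∩ Set.range (Sigma.ι (fun j => (V j).toScheme) j) =
        Sigma.ι (fun j => (V j).toScheme) j '' ((V j).ι ⁻¹' ((𝒰.f (idx j)) ⁻¹' A)) := by
      rw [← Set.image_preimage_eq_inter_range]
      congr 1
      ext y
      change U.1.ι (q (Sigma.ι (fun j => (V j).toScheme) j y)) ∈ A ↔ 𝒰.f (idx j) ((V j).ι y) ∈ A
      rw [← Scheme.Hom.comp_apply, ← Scheme.Hom.comp_apply, Sigma.ι_desc_assoc,
        IsOpenImmersion.lift_fac, Scheme.Hom.comp_apply]
    exact h2 ▸ (Sigma.ι (fun j => (V j).toScheme) j).isOpenEmbedding.isOpenMap _ h1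

end Groth.Agent.FpqcDescent
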