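import Groth.Agent.FpqcDescent.Affine
import Mathlib.AlgebraicGeometry.Morphisms.Finite
import Mathlib.AlgebraicGeometry.Morphisms.LocalFlatDescent

/-! # more fpqc descent, openness along fpqc coverings -/

universe u

open CategoryTheory AlgebraicGeometry Limits MorphismProperty

namespace Groth.Agent.FpqcDescent

set_option backward.isDefEq.respectTransparency.types false in
instance descendsAlong_isFinite :
    DescendsAlong @IsFinite (@Surjective ⊓ @Flat ⊓ @QuasiCompact : MorphismProperty Scheme.{u}) := by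
  apply IsZariskiLocalAtTarget.descendsAlong_inf_quasiCompact
  · rw [inf_comm]
    exact inf_le_inf le_rfl (IsLocalIso.le_of_isZariskiLocalAtSource _)
  intro R S Y φ g h hfst
  obtain ⟨h₁, h₂⟩ := id h
  have : IsFinite (pullback.fst (Spec.map φ) g) := hfst
  have : IsAffine Y := isAffine_of_pullback φ g h₁
  wlog hY : ∃ T, Y = Spec T generalizing Y
  · rw [← MorphismProperty.cancel_left_of_respectsIso (P := @IsFinite) Y.isoSpec.inv]
    have heq : pullback.fst (Spec.map φ) (Y.isoSpec.inv ≫ g) =
      pullback.map _ _ _ _ (𝟙 _) (Y.isoSpec.inv) (𝟙 _) (by simp) (by simp) ≫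
        pullback.fst (Spec.map φ) g := (pullback.lift_fst _ _ _).symm
    have h3 : IsFinite (pullback.fst (Spec.map φ) (Y.isoSpec.inv ≫ g)) := by
      rw [heq, MorphismProperty.cancel_left_of_respectsIso (P := @IsFinite)]
      infer_instance
    exact this _ h3 h3 inferInstance ⟨_, rfl⟩
  obtain ⟨T, rfl⟩ := hY
  refine of_pullback_fst_Spec_of_codescendsAlong (P := @IsFinite)
    (Q' := RingHom.FaithfullyFlat) (Q := fun f ↦ RingHom.Finite f) (P' := @Surjective ⊓ @Flat)
    RingHom.Finite.codescendsAlong_faithfullyFlat ?_ ?_ h hfst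
  · intro _ _ f hf
    rwa [← flat_and_surjective_SpecMap_iff, and_comm]
  · intro _ _ f
    exact IsFinite.SpecMap_iff f

/-- a subset whose preimages along the members of an fpqc covering are open is open -/
theorem isOpen_of_fpqcPrecoverage {S : Scheme.{u}} {R : Presieve S}
    (hR : R ∈ Scheme.fpqcPrecoverage S) (A : Set S)
    (h : ∀ ⦃S' : Scheme.{u}⦄ (f : S' ⟶ S), R f → IsOpen (f ⁻¹' A)) : IsOpen A := by
  obtain ⟨𝒰, hqc, rfl⟩ := Scheme.mem_propQCPrecoverage_iff_exists_quasiCompactCover.mp hR
  rw [TopologicalSpace.IsOpenCover.isOpen_iff_inter (iSup_affineOpens_eq_top S)]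
  intro U
  obtain ⟨W, q, hq, hopen⟩ := exists_fpqc_cover_affineOpen 𝒰 hqc U A fun i => h _ (Presieve.ofArrows.mk i)
  obtain ⟨⟨h1, h2⟩, h3⟩ := hq
  have := (Flat.isQuotientMap_of_surjective q).isOpen_preimage.mp hopen
  have h4 := U.1.ι.isOpenEmbedding.isOpenMap _ this
  rwa [Set.image_preimage_eq_inter_range, Scheme.Opens.range_ι] at h4

end Groth.Agent.FpqcDescent
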