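import Groth.Agent.FpqcDescent.Props
import Mathlib.AlgebraicGeometry.Morphisms.Finite
import Mathlib.AlgebraicGeometry.Morphisms.Separated
import Mathlib.AlgebraicGeometry.Morphisms.Etale
import Mathlib.AlgebraicGeometry.Morphisms.QuasiFinite
import Mathlib.RingTheory.Unramified.LocalStructure

/-! # fpqc descent of closed immersions and separatedness; etale is locally quasi-finite -/

universe u

open CategoryTheory AlgebraicGeometry Limits MorphismProperty

namespace Groth.Agent.FpqcDescent

set_option backward.isDefEq.respectTransparency.types false in
instance descendsAlong_mono :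
    DescendsAlong (monomorphisms Scheme.{u}) (@Surjective ⊓ @Flat ⊓ @QuasiCompact : MorphismProperty Scheme.{u}) := by
  rw [← diagonal_isomorphisms]
  infer_instance

set_option backward.isDefEq.respectTransparency.types false in
instance descendsAlong_isClosedImmersion :
    DescendsAlong @IsClosedImmersion (@Surjective ⊓ @Flat ⊓ @QuasiCompact : MorphismProperty Scheme.{u}) := by
  rw [IsClosedImmersion.eq_isFinite_inf_mono]
  infer_instance

set_option backward.isDefEq.respectTransparency.types false in
instance descendsAlong_isSeparated :
    DescendsAlong @IsSeparated (@Surjective ⊓ @Flat ⊓ @QuasiCompact : MorphismProperty Scheme.{u}) := by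
  rw [IsSeparated.isSeparated_eq_diagonal_isClosedImmersion]
  infer_instance

theorem locallyQuasiFinite_of_etale {X Y : Scheme.{u}} (h : X ⟶ Y) [Etale h] :
    LocallyQuasiFinite h := by
  refine ⟨fun {U} hU {W} hW e => ?_⟩
  have := HasRingHomProperty.appLE (P := @Etale) h inferInstance ⟨U, hU⟩ ⟨W, hW⟩ e
  algebraize [(h.appLE U W e).hom]
  show @Algebra.QuasiFinite _ _ _ _ (h.appLE U W e).hom.toAlgebra
  infer_instance

end Groth.Agent.FpqcDescent
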