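import Mathlib.RingTheory.Flat.Basic
import Mathlib.LinearAlgebra.TensorProduct.RightExactness
import Mathlib.LinearAlgebra.TensorProduct.Pi
import Mathlib.RingTheory.Ideal.Maps
import Mathlib.RingTheory.Ideal.Quotient.Operations
import Mathlib.RingTheory.TensorProduct.Basic

/-! # flat algebra lemmas for descent of ideals -/

universe u

open TensorProduct

namespace Groth.Agent.FpqcDescent

variable {A B : Type u} [CommRing A] [CommRing B] [Algebra A B]

lemma tmul_one_eq_zero (I : Ideal A) {x : B} (hx : x ∈ I.map (algebraMap A B)) :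
    x ⊗ₜ[A] (1 : A ⧸ I) = 0 := by
  induction hx using Submodule.span_induction with
  | mem y hy =>
    obtain ⟨a, ha, rfl⟩ := hy
    rw [Algebra.algebraMap_eq_smul_one, TensorProduct.smul_tmul, ← Algebra.algebraMap_eq_smul_one,
      Ideal.Quotient.algebraMap_eq, Ideal.Quotient.eq_zero_iff_mem.mpr ha, TensorProduct.tmul_zero]
  | zero => exact TensorProduct.zero_tmul _ _
  | add y z _ _ hy hz => rw [TensorProduct.add_tmul, hy, hz, add_zero]
  | smul c y _ hy => rw [← TensorProduct.smul_tmul', hy, smul_zero]

/-- colon ideals commute with flat extensions (the half we need) -/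
lemma exists_le_map_of_flat [Module.Flat A B] (I : Ideal A) (a : A)
    (h : algebraMap A B a ∈ I.map (algebraMap A B)) :
    ∃ c : Ideal A, (∀ x ∈ c, x * a ∈ I) ∧ (1 : B) ∈ c.map (algebraMap A B) := by
  let μ : A →ₗ[A] A ⧸ I := LinearMap.toSpanSingleton A (A ⧸ I) (Ideal.Quotient.mk I a)
  refine ⟨LinearMap.ker μ, fun x hx ↦ ?_, ?_⟩
  · have : x • Ideal.Quotient.mk I a = 0 := hx
    rw [← Ideal.Quotient.mk_eq_mk, ← Submodule.Quotient.mk_smul, Submodule.Quotient.mk_eq_zero] at this
    exact this
  · have hex : Function.Exact (LinearMap.ker μ).subtype μ := LinearMap.exact_subtype_ker_map μ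
    have h1 : μ.lTensor B ((1 : B) ⊗ₜ 1) = 0 := by
      have := tmul_one_eq_zero I h
      rw [Algebra.algebraMap_eq_smul_one, TensorProduct.smul_tmul, ← Algebra.algebraMap_eq_smul_one] at this
      simpa [μ] using this
    obtain ⟨z, hz⟩ := ((Module.Flat.lTensor_exact B hex) _).mp h1
    have key : ∀ z : B ⊗[A] ↥(LinearMap.ker μ),
        TensorProduct.rid A B ((LinearMap.ker μ).subtype.lTensor B z) ∈
          Ideal.map (algebraMap A B) (LinearMap.ker μ) := by
      intro z
      induction z using TensorProduct.induction_on with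
      | zero => simp
      | tmul b x =>
        simp only [LinearMap.lTensor_tmul, Submodule.coe_subtype, TensorProduct.rid_tmul]
        rw [Algebra.smul_def]
        exact Ideal.mul_mem_right _ _ (Ideal.mem_map_of_mem _ x.2)
      | add u v hu hv => simpa using add_mem hu hv
    have := key z
    rw [hz] at this
    simpa using this

/-- membership in the extension of an intersection of contractions -/
lemma mem_map_iInf_comap [Module.Flat A B] {ι : Type u} [Finite ι] {C : ι → Type u}
    [∀ j, CommRing (C j)] [∀ j, Algebra A (C j)] (J : ∀ j, Ideal (C j)) (b : B)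
    (h : ∀ j, b ⊗ₜ[A] (1 : C j ⧸ J j) = 0) :
    b ∈ (⨅ j, (J j).comap (algebraMap A (C j))).map (algebraMap A B) := by
  classical
  cases nonempty_fintype ι
  let μ : A →ₗ[A] ∀ j, C j ⧸ J j := LinearMap.toSpanSingleton A _ 1
  have hex : Function.Exact (LinearMap.ker μ).subtype μ := LinearMap.exact_subtype_ker_map μ
  have h1 : μ.lTensor B (b ⊗ₜ 1) = 0 := by
    apply (TensorProduct.piRight A A B fun j ↦ C j ⧸ J j).injective
    funext j
    simpa [μ] using h j
  obtain ⟨z, hz⟩ := ((Module.Flat.lTensor_exact B hex) _).mp h1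
  have key : ∀ z : B ⊗[A] ↥(LinearMap.ker μ),
      TensorProduct.rid A B ((LinearMap.ker μ).subtype.lTensor B z) ∈
        Ideal.map (algebraMap A B) (⨅ j, (J j).comap (algebraMap A (C j))) := by
    intro z
    induction z using TensorProduct.induction_on with
    | zero => simp
    | tmul c x =>
      simp only [LinearMap.lTensor_tmul, Submodule.coe_subtype, TensorProduct.rid_tmul]
      rw [Algebra.smul_def]
      refine Ideal.mul_mem_right _ _ (Ideal.mem_map_of_mem _ (Ideal.mem_iInf.mpr fun j ↦ ?_))
      have hx : μ x.1 = 0 := x.2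
      have := congrFun hx j
      simp only [μ, LinearMap.toSpanSingleton_apply, Pi.smul_apply, Pi.one_apply, Pi.zero_apply,
        ← Algebra.algebraMap_eq_smul_one] at this
      rw [← Ideal.Quotient.mk_algebraMap] at this
      exact Ideal.mem_comap.mpr (Ideal.Quotient.eq_zero_iff_mem.mp this)
    | add u v hu hv => simpa using add_mem hu hv
  have := key z
  rw [hz] at this
  simpa using this

end Groth.Agent.FpqcDescent
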