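import Groth.Agent.FpqcDescent.Affine
import Groth.Agent.FpqcDescent.IdealAlg
import Mathlib.AlgebraicGeometry.IdealSheaf.Functorial

/-! # fpqc descent of ideal sheaves -/

universe u

open CategoryTheory AlgebraicGeometry Limits TopologicalSpace

namespace Groth.Agent.FpqcDescent

section formulas

variable {X Y : Scheme.{u}}

lemma ideal_comap_of_isAffine [IsAffine X] [IsAffine Y] (I : Y.IdealSheafData) (f : X ⟶ Y) :
    (I.comap f).ideal ⟨⊤, isAffineOpen_top X⟩ =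
      (I.ideal ⟨⊤, isAffineOpen_top Y⟩).map f.appTop.hom := by
  obtain ⟨J, hJ⟩ := (Scheme.IdealSheafData.equivOfIsAffine (X := X)).surjective
    ((I.ideal ⟨⊤, isAffineOpen_top Y⟩).map f.appTop.hom)
  replace hJ : J.ideal ⟨⊤, isAffineOpen_top X⟩ = _ := hJ
  have hmap : ∀ J : X.IdealSheafData, (J.map f).ideal ⟨⊤, isAffineOpen_top Y⟩ =
      (J.ideal ⟨⊤, isAffineOpen_top X⟩).comap f.appTop.hom := fun J ↦
    Scheme.IdealSheafData.ideal_map J f ⟨⊤, isAffineOpen_top Y⟩ (isAffineOpen_top X)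
  apply le_antisymm
  · rw [← hJ]
    have : I.comap f ≤ J := by
      rw [← Scheme.IdealSheafData.le_map_iff_comap_le]
      refine Scheme.IdealSheafData.le_of_isAffine ?_
      rw [hmap, hJ]
      exact Ideal.le_comap_map
    exact this _
  · rw [Ideal.map_le_iff_le_comap, ← hmap]
    exact (Scheme.IdealSheafData.le_map_iff_comap_le.mpr le_rfl : I ≤ (I.comap f).map f) _

lemma bijective_appLE_of_range_eq {T : Scheme.{u}} (j : T ⟶ Y) [IsOpenImmersion j] (O : Y.Opens)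
    (hO : O = j.opensRange) (e : (⊤ : T.Opens) ≤ j ⁻¹ᵁ O) :
    Function.Bijective (j.appLE O ⊤ e).hom := by
  have : IsIso (j.appLE O ⊤ e) := by
    subst hO
    have e' : j ⁻¹ᵁ j.opensRange = ⊤ := j.preimage_opensRange
    have := j.isIso_app j.opensRange le_rfl
    rw [Scheme.Hom.appLE, show homOfLE e = eqToHom e'.symm from rfl]
    infer_instance
  exact ConcreteCategory.bijective_of_isIso (j.appLE O ⊤ e)

lemma ideal_comap_ι (I : Y.IdealSheafData) (U : Y.affineOpens) :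
    (I.comap U.1.ι).ideal ⟨⊤, (have : IsAffine U.1.toScheme := U.2; isAffineOpen_top U.1.toScheme)⟩ =
      (I.ideal U).map (U.1.ι.appLE U.1 ⊤ (fun x _ ↦ x.2)).hom := by
  have : IsAffine U.1.toScheme := U.2
  let W : Y.affineOpens := ⟨U.1.ι ''ᵁ ⊤, (isAffineOpen_top _).image_of_isOpenImmersion U.1.ι⟩
  have hW : W = U := Subtype.ext U.1.ι_image_top
  rw [Scheme.IdealSheafData.ideal_comap_of_isOpenImmersion]
  change Ideal.comap (U.1.ι.appIso ⊤).inv.hom (I.ideal W) = _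
  have e : (U.1.ι.appIso ⊤).hom = U.1.ι.appLE W.1 ⊤ (U.1.ι.preimage_image_eq _).ge :=
    U.1.ι.appIso_hom' ⊤
  have key : ∀ (W U' : Y.affineOpens) (h : W = U') (e₁ : (⊤ : U.1.toScheme.Opens) ≤ U.1.ι ⁻¹ᵁ W.1)
      (e₂ : (⊤ : U.1.toScheme.Opens) ≤ U.1.ι ⁻¹ᵁ U'.1),
      (I.ideal W).map (U.1.ι.appLE W.1 ⊤ e₁).hom = (I.ideal U').map (U.1.ι.appLE U'.1 ⊤ e₂).hom := by
    rintro W U' rfl _ _; rfl
  refine Eq.trans ?_ (key W U hW (U.1.ι.preimage_image_eq _).ge _)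
  rw [← e]
  exact (Ideal.map_comap_of_equiv (U.1.ι.appIso ⊤).commRingCatIsoToRingEquiv).symm

lemma ideal_comap_affine {T : Scheme.{u}} [IsAffine T] (I : Y.IdealSheafData) (f : T ⟶ Y)
    (U : Y.affineOpens) (e : (⊤ : T.Opens) ≤ f ⁻¹ᵁ U.1) :
    (I.comap f).ideal ⟨⊤, isAffineOpen_top T⟩ = (I.ideal U).map (f.appLE U.1 ⊤ e).hom := by
  have : IsAffine U.1.toScheme := U.2
  have hr : Set.range f ⊆ Set.range U.1.ι := by
    rintro _ ⟨x, rfl⟩
    rw [Scheme.Opens.range_ι]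
    exact e (trivial : x ∈ (⊤ : T.Opens))
  obtain ⟨g, rfl⟩ : ∃ g, g ≫ U.1.ι = f := ⟨_, IsOpenImmersion.lift_fac U.1.ι f hr⟩
  have h1 := Scheme.Hom.appLE_comp_appLE g U.1.ι U.1 ⊤ ⊤ (fun x _ ↦ x.2) (fun _ _ ↦ trivial)
  have h2 : g.appLE ⊤ ⊤ (fun _ _ ↦ trivial) = g.appTop := by
    rw [Scheme.Hom.appTop, Scheme.Hom.app_eq_appLE]; rfl
  rw [h2] at h1
  rw [Scheme.IdealSheafData.comap_comp, ideal_comap_of_isAffine, ideal_comap_ι, Ideal.map_map,
    ← CommRingCat.hom_comp, h1]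

lemma map_injective_of_bijective {R S : Type u} [CommRing R] [CommRing S] {φ : R →+* S}
    (h : Function.Bijective φ) {I J : Ideal R} (e : I.map φ = J.map φ) : I = J := by
  have := congrArg (Ideal.comap φ) e
  rwa [Ideal.comap_map_of_bijective φ h, Ideal.comap_map_of_bijective φ h] at this

/-- descending membership along a flat jointly covering family -/
lemma mem_of_flat_cover {T : Type u} (U : Y.affineOpens) (W : T → Scheme.{u})
    [∀ t, IsAffine (W t)] (f : ∀ t, W t ⟶ Y) [∀ t, Flat (f t)]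
    (e : ∀ t, (⊤ : (W t).Opens) ≤ f t ⁻¹ᵁ U.1) (hcov : ∀ y ∈ U.1, ∃ t w, f t w = y)
    (I : Ideal Γ(Y, U.1)) (a : Γ(Y, U.1))
    (h : ∀ t, ((f t).appLE U.1 ⊤ (e t)).hom a ∈ I.map ((f t).appLE U.1 ⊤ (e t)).hom) : a ∈ I := by
  by_contra ha
  let c₀ : Ideal Γ(Y, U.1) := Submodule.colon I {a}
  have hc₀ : c₀ ≠ ⊤ := fun h1 ↦ ha (by
    have : (1 : Γ(Y, U.1)) ∈ c₀ := h1 ▸ trivial
    simpa [c₀, Submodule.mem_colon_singleton] using this)
  obtain ⟨P, hP, hle⟩ := Ideal.exists_le_maximal c₀ hc₀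
  let p : PrimeSpectrum Γ(Y, U.1) := ⟨P, hP.isPrime⟩
  let y : Y := U.2.fromSpec p
  have hy : y ∈ U.1 := U.2.range_fromSpec.le ⟨p, rfl⟩
  obtain ⟨t, w, hw⟩ := hcov y hy
  algebraize [((f t).appLE U.1 ⊤ (e t)).hom]
  have : Module.Flat Γ(Y, U.1) Γ(W t, ⊤) := (f t).flat_appLE U.2 (isAffineOpen_top _) (e t)
  obtain ⟨c, hc, h1⟩ := exists_le_map_of_flat I a (B := Γ(W t, ⊤)) (h t)
  let germ := ((W t).presheaf.germ ⊤ w trivial).hom
  have hK : c.map ((f t).appLE U.1 ⊤ (e t)).hom ≤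
      (IsLocalRing.maximalIdeal ((W t).presheaf.stalk w)).comap germ := by
    rw [Ideal.map_le_iff_le_comap]
    intro x hx
    have hxc : x ∈ c₀ := by
      simpa [c₀, Submodule.mem_colon_singleton] using hc x hx
    have hxy : y ∉ Y.basicOpen x := fun hh ↦ by
      have : p ∈ PrimeSpectrum.basicOpen x := (U.2.fromSpec_preimage_basicOpen x).le hh
      exact this (hle hxc)
    change germ _ ∈ IsLocalRing.maximalIdeal _
    rw [IsLocalRing.mem_maximalIdeal, mem_nonunits_iff]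
    intro hu
    have : w ∈ (W t).basicOpen (((f t).appLE U.1 ⊤ (e t)).hom x) :=
      ((W t).mem_basicOpen_top _ w).mpr hu
    rw [Scheme.basicOpen_appLE] at this
    exact hxy (hw ▸ this.2)
  have := hK h1
  rw [Ideal.mem_comap, map_one] at this
  exact Ideal.one_notMem (IsLocalRing.maximalIdeal _) this

lemma bijective_ι_appLE (W : Y.affineOpens) :
    Function.Bijective (W.1.ι.appLE W.1 ⊤ (fun x _ ↦ x.2)).hom :=
  bijective_appLE_of_range_eq _ _ W.1.opensRange_ι.symm _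

/-- the ideal of a pullback on an affine open mapping into an affine open -/
lemma ideal_comap_appLE (I : Y.IdealSheafData) (f : X ⟶ Y) (U : Y.affineOpens) (W : X.affineOpens)
    (e : W.1 ≤ f ⁻¹ᵁ U.1) :
    (I.comap f).ideal W = (I.ideal U).map (f.appLE U.1 W.1 e).hom := by
  have : IsAffine W.1.toScheme := W.2
  apply map_injective_of_bijective (bijective_ι_appLE W)
  rw [← ideal_comap_ι, ← Scheme.IdealSheafData.comap_comp,
    ideal_comap_affine I (W.1.ι ≫ f) U (fun x _ ↦ e x.2), Ideal.map_map, ← CommRingCat.hom_comp,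
    Scheme.Hom.appLE_comp_appLE W.1.ι f U.1 W.1 ⊤ e (fun x _ ↦ x.2)]

/-- `mem_of_flat_cover` for a family of affine opens -/
lemma mem_of_flat_cover' {T : Type u} (U : Y.affineOpens) (W : T → Scheme.{u})
    (V : ∀ t, (W t).affineOpens) (f : ∀ t, W t ⟶ Y) [∀ t, Flat (f t)]
    (e : ∀ t, (V t).1 ≤ f t ⁻¹ᵁ U.1) (hcov : ∀ y ∈ U.1, ∃ t, ∃ w ∈ (V t).1, f t w = y)
    (I : Ideal Γ(Y, U.1)) (a : Γ(Y, U.1))
    (h : ∀ t, ((f t).appLE U.1 _ (e t)).hom a ∈ I.map ((f t).appLE U.1 _ (e t)).hom) : a ∈ I := by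
  have : ∀ t, IsAffine (V t).1.toScheme := fun t ↦ (V t).2
  refine mem_of_flat_cover U (fun t ↦ (V t).1.toScheme) (fun t ↦ (V t).1.ι ≫ f t)
    (fun t x _ ↦ e t x.2) (fun y hy ↦ ?_) I a fun t ↦ ?_
  · obtain ⟨t, w, hw, rfl⟩ := hcov y hy
    exact ⟨t, ⟨w, hw⟩, rfl⟩
  · rw [← Scheme.Hom.appLE_comp_appLE (V t).1.ι (f t) U.1 (V t).1 ⊤ (e t) (fun x _ ↦ x.2),
      CommRingCat.hom_comp, ← Ideal.map_map, RingHom.comp_apply]
    exact Ideal.mem_map_of_mem _ (h t)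

end formulas

lemma appLE_congr {X Y : Scheme.{u}} {f f' : X ⟶ Y} (h : f = f') (U : Y.Opens) (V : X.Opens)
    (e : V ≤ f ⁻¹ᵁ U) (e' : V ≤ f' ⁻¹ᵁ U) : f.appLE U V e = f'.appLE U V e' := by
  subst h; rfl

section glue

variable {P : Scheme.{u}} {ι : Type u} {Q : ι → Scheme.{u}} {g : ∀ i, Q i ⟶ P}

/-- the descended ideal, on an affine open -/
noncomputable def descIdeal (g : ∀ i, Q i ⟶ P) (I : ∀ i, (Q i).IdealSheafData) (U : P.affineOpens) :
    Ideal Γ(P, U.1) :=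
  ⨅ (i : ι) (V : (Q i).affineOpens) (e : V.1 ≤ g i ⁻¹ᵁ U.1),
    ((I i).ideal V).comap ((g i).appLE U.1 V.1 e).hom

lemma mem_descIdeal {I : ∀ i, (Q i).IdealSheafData} {U : P.affineOpens} {a : Γ(P, U.1)} :
    a ∈ descIdeal g I U ↔ ∀ (i : ι) (V : (Q i).affineOpens) (e : V.1 ≤ g i ⁻¹ᵁ U.1),
      ((g i).appLE U.1 V.1 e).hom a ∈ (I i).ideal V := by
  simp only [descIdeal, Ideal.mem_iInf, Ideal.mem_comap]

/-- finitely many affine pieces over an affine open -/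
structure Pieces (g : ∀ i, Q i ⟶ P) (U : P.affineOpens) where
  n : ℕ
  idx : Fin n → ι
  V : ∀ j, (Q (idx j)).affineOpens
  le : ∀ j, (V j).1 ≤ g (idx j) ⁻¹ᵁ U.1
  cov : ∀ y ∈ U.1, ∃ j, ∃ w ∈ (V j).1, g (idx j) w = y

variable (hg : Presieve.ofArrows Q g ∈ Scheme.fpqcPrecoverage P)

include hg in
lemma flat_of_mem (i : ι) : Flat (g i) :=
  ((Scheme.ofArrows_mem_precoverage_iff _).mp hg.2).2 i

include hg in
lemma exists_pieces (U : P.affineOpens) : Nonempty (Pieces g U) := by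
  let E : PreZeroHypercover.{u} P := { I₀ := ι, X := Q, f := g }
  have : QuasiCompactCover E := Scheme.presieve₀_mem_qcPrecoverage_iff.mp hg.1
  obtain ⟨n, idx, V, hV, hcov⟩ := QuasiCompactCover.exists_isAffineOpen_of_isCompact E U.2.isCompact
  refine ⟨⟨n, idx, fun j ↦ ⟨V j, hV j⟩, fun j x hx ↦ ?_, fun y hy ↦ ?_⟩⟩
  · exact hcov.le (Set.mem_iUnion.mpr ⟨j, x, hx, rfl⟩)
  · obtain ⟨j, w, hw, e⟩ := Set.mem_iUnion.mp (hcov.ge hy)
    exact ⟨j, w, hw, e⟩

lemma isAffineOpen_inf {U : P.affineOpens} {i k : ι} (V : (Q i).affineOpens) (W : (Q k).affineOpens)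
    (eV : V.1 ≤ g i ⁻¹ᵁ U.1) (eW : W.1 ≤ g k ⁻¹ᵁ U.1) :
    IsAffineOpen (pullback.fst (g i) (g k) ⁻¹ᵁ V.1 ⊓ pullback.snd (g i) (g k) ⁻¹ᵁ W.1) := by
  have : IsAffine U.1.toScheme := U.2
  have : IsAffine V.1.toScheme := V.2
  have : IsAffine W.1.toScheme := W.2
  exact .of_isIso (Scheme.Hom.isPullback_resLE (IsPullback.of_hasPullback (g i) (g k)) eW eV rfl).isoPullback.hom

variable (I : ∀ i, (Q i).IdealSheafData)
  (h : ∀ i j, (I i).comap (pullback.fst (g i) (g j)) = (I j).comap (pullback.snd (g i) (g j)))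

include h in
lemma map_fst_eq_map_snd {U : P.affineOpens} {i k : ι} (V : (Q i).affineOpens)
    (W : (Q k).affineOpens) (eV : V.1 ≤ g i ⁻¹ᵁ U.1) (eW : W.1 ≤ g k ⁻¹ᵁ U.1) :
    ((I i).ideal V).map ((pullback.fst (g i) (g k)).appLE V.1
        (pullback.fst (g i) (g k) ⁻¹ᵁ V.1 ⊓ pullback.snd (g i) (g k) ⁻¹ᵁ W.1) inf_le_left).hom =
      ((I k).ideal W).map ((pullback.snd (g i) (g k)).appLE W.1
        (pullback.fst (g i) (g k) ⁻¹ᵁ V.1 ⊓ pullback.snd (g i) (g k) ⁻¹ᵁ W.1) inf_le_right).hom := by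
  rw [← ideal_comap_appLE (I i) _ V ⟨_, isAffineOpen_inf V W eV eW⟩ inf_le_left,
    ← ideal_comap_appLE (I k) _ W ⟨_, isAffineOpen_inf V W eV eW⟩ inf_le_right, h i k]

include hg h in
lemma mem_descIdeal_of_pieces {U : P.affineOpens} (C : Pieces g U) (a : Γ(P, U.1))
    (ha : ∀ j, ((g (C.idx j)).appLE U.1 _ (C.le j)).hom a ∈ (I (C.idx j)).ideal (C.V j)) :
    a ∈ descIdeal g I U := by
  refine mem_descIdeal.mpr fun i V e ↦ ?_
  have := flat_of_mem hg
  refine mem_of_flat_cover' V (fun j : ULift.{u} (Fin C.n) ↦ pullback (g i) (g (C.idx j.down)))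
    (fun j ↦ ⟨_, isAffineOpen_inf V (C.V j.down) e (C.le j.down)⟩)
    (fun j ↦ pullback.fst (g i) (g (C.idx j.down))) (fun j ↦ inf_le_left) ?_ _ _ ?_
  · intro y hy
    obtain ⟨j, w, hw, hwy⟩ := C.cov (g i y) (e hy)
    obtain ⟨z, hz₁, hz₂⟩ := Scheme.Pullback.exists_preimage_pullback (f := g i) (g := g (C.idx j)) y w hwy.symm
    exact ⟨⟨j⟩, z, ⟨show pullback.fst (g i) (g (C.idx j)) z ∈ V.1 by rw [hz₁]; exact hy,
      show pullback.snd (g i) (g (C.idx j)) z ∈ (C.V j).1 by rw [hz₂]; exact hw⟩, hz₁⟩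
  · rintro ⟨j⟩
    have e₁ : pullback.fst (g i) (g (C.idx j)) ⁻¹ᵁ V.1 ⊓ pullback.snd (g i) (g (C.idx j)) ⁻¹ᵁ (C.V j).1 ≤
        (pullback.fst (g i) (g (C.idx j)) ≫ g i) ⁻¹ᵁ U.1 := fun x hx ↦ e hx.1
    have e₂ : pullback.fst (g i) (g (C.idx j)) ⁻¹ᵁ V.1 ⊓ pullback.snd (g i) (g (C.idx j)) ⁻¹ᵁ (C.V j).1 ≤
        (pullback.snd (g i) (g (C.idx j)) ≫ g (C.idx j)) ⁻¹ᵁ U.1 := fun x hx ↦ C.le j hx.2
    have key : ((g (C.idx j)).appLE U.1 _ (C.le j) ≫
          (pullback.snd (g i) (g (C.idx j))).appLE (C.V j).1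
            (pullback.fst (g i) (g (C.idx j)) ⁻¹ᵁ V.1 ⊓ pullback.snd (g i) (g (C.idx j)) ⁻¹ᵁ (C.V j).1)
            inf_le_right) =
        (g i).appLE U.1 _ e ≫ (pullback.fst (g i) (g (C.idx j))).appLE V.1
            (pullback.fst (g i) (g (C.idx j)) ⁻¹ᵁ V.1 ⊓ pullback.snd (g i) (g (C.idx j)) ⁻¹ᵁ (C.V j).1)
            inf_le_left := by
      rw [Scheme.Hom.appLE_comp_appLE, Scheme.Hom.appLE_comp_appLE]
      exact appLE_congr pullback.condition.symm _ _ e₂ e₁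
    rw [map_fst_eq_map_snd I h V (C.V j) e (C.le j)]
    have hm := Ideal.mem_map_of_mem ((pullback.snd (g i) (g (C.idx j))).appLE (C.V j).1
      (pullback.fst (g i) (g (C.idx j)) ⁻¹ᵁ V.1 ⊓ pullback.snd (g i) (g (C.idx j)) ⁻¹ᵁ (C.V j).1)
      inf_le_right).hom (ha j)
    rw [← CommRingCat.comp_apply, key, CommRingCat.comp_apply] at hm
    exact hm

include hg h in
open TensorProduct in
lemma ideal_eq_map_descIdeal (U : P.affineOpens) (i : ι) (V : (Q i).affineOpens)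
    (e : V.1 ≤ g i ⁻¹ᵁ U.1) :
    (descIdeal g I U).map ((g i).appLE U.1 V.1 e).hom = (I i).ideal V := by
  refine le_antisymm (Ideal.map_le_iff_le_comap.mpr fun a ha ↦ mem_descIdeal.mp ha i V e) fun b hb ↦ ?_
  obtain ⟨C⟩ := exists_pieces hg U
  have hfl := flat_of_mem hg
  let : Algebra Γ(P, U.1) Γ(Q i, V.1) := ((g i).appLE U.1 V.1 e).hom.toAlgebra
  have : Module.Flat Γ(P, U.1) Γ(Q i, V.1) := (g i).flat_appLE U.2 V.2 e
  let R := fun j : ULift.{u} (Fin C.n) ↦ ↥Γ(Q (C.idx j.down), (C.V j.down).1)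
  let : ∀ j, Algebra Γ(P, U.1) (R j) := fun j ↦
    ((g (C.idx j.down)).appLE U.1 (C.V j.down).1 (C.le j.down)).hom.toAlgebra
  let J : ∀ j, Ideal (R j) := fun j ↦ (I (C.idx j.down)).ideal (C.V j.down)
  have hK : (⨅ j, (J j).comap (algebraMap Γ(P, U.1) (R j))) ≤ descIdeal g I U := fun a ha ↦
    mem_descIdeal_of_pieces hg I h C a fun j ↦ Ideal.mem_iInf.mp ha ⟨j⟩
  refine Ideal.map_mono hK (mem_map_iInf_comap J b fun ⟨j⟩ ↦ ?_)
  -- descend through the pushout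
  let Bq := Γ(Q i, V.1) ⊗[Γ(P, U.1)] (R ⟨j⟩ ⧸ J ⟨j⟩)
  let α : Γ(Q i, V.1) →+* Bq := Algebra.TensorProduct.includeLeftRingHom
  let β : R ⟨j⟩ →+* Bq :=
    (Algebra.TensorProduct.includeRight (R := Γ(P, U.1)) (A := Γ(Q i, V.1))).toRingHom.comp
      (Ideal.Quotient.mk (J ⟨j⟩))
  have hαβ : (g i).appLE U.1 V.1 e ≫ CommRingCat.ofHom α =
      (g (C.idx j)).appLE U.1 _ (C.le j) ≫ CommRingCat.ofHom β := by
    refine CommRingCat.hom_ext (RingHom.ext fun a ↦ ?_)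
    change algebraMap Γ(P, U.1) Γ(Q i, V.1) a ⊗ₜ[Γ(P, U.1)] (1 : R ⟨j⟩ ⧸ J ⟨j⟩) =
      (1 : Γ(Q i, V.1)) ⊗ₜ[Γ(P, U.1)] algebraMap Γ(P, U.1) (R ⟨j⟩ ⧸ J ⟨j⟩) a
    rw [Algebra.algebraMap_eq_smul_one, TensorProduct.smul_tmul, ← Algebra.algebraMap_eq_smul_one]
  have hpo := (isIso_pushoutSection_iff ..).mp (isIso_pushoutSection_of_isAffineOpen
    (IsPullback.of_hasPullback (g i) (g (C.idx j))) (C.le j) e rfl U.2 (C.V j).2 V.2)
  let Φ := hpo.desc (CommRingCat.ofHom α) (CommRingCat.ofHom β) hαβ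
  have h1 := Ideal.mem_map_of_mem ((pullback.fst (g i) (g (C.idx j))).appLE V.1
    (pullback.fst (g i) (g (C.idx j)) ⁻¹ᵁ V.1 ⊓ pullback.snd (g i) (g (C.idx j)) ⁻¹ᵁ (C.V j).1)
    inf_le_left).hom hb
  rw [map_fst_eq_map_snd I h V (C.V j) e (C.le j)] at h1
  have h2 := Ideal.mem_map_of_mem Φ.hom h1
  rw [Ideal.map_map, ← CommRingCat.hom_comp, ← RingHom.comp_apply, ← CommRingCat.hom_comp,
    IsPushout.inl_desc, IsPushout.inr_desc] at h2
  have hz : (J ⟨j⟩).map β = ⊥ := by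
    rw [Ideal.map_eq_bot_iff_le_ker]
    intro x hx
    change (1 : Γ(Q i, V.1)) ⊗ₜ[Γ(P, U.1)] Ideal.Quotient.mk (J ⟨j⟩) x = 0
    rw [Ideal.Quotient.eq_zero_iff_mem.mpr hx, TensorProduct.tmul_zero]
  exact (Ideal.mem_bot).mp (hz.le h2)

include hg h in
theorem existsUnique_descent :
    ∃! J : P.IdealSheafData, ∀ i, J.comap (g i) = I i := by
  have hfl := flat_of_mem hg
  let K : P.IdealSheafData :=
    { ideal := descIdeal g I
      map_ideal_basicOpen := fun U r ↦ by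
        apply le_antisymm
        · refine Ideal.map_le_iff_le_comap.mpr ?_
          refine fun a ha ↦ mem_descIdeal.mpr fun i V e ↦ ?_
          have := congr($(Scheme.Hom.map_appLE (g i) e (homOfLE (P.basicOpen_le r)).op) a)
          exact this.symm ▸ mem_descIdeal.mp ha i V _
        intro b hb
        obtain ⟨C⟩ := exists_pieces hg U
        let res := (P.presheaf.map (homOfLE (P.basicOpen_le r)).op).hom
        let : Algebra Γ(P, U.1) Γ(P, P.basicOpen r) := res.toAlgebra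
        have : IsLocalization.Away r Γ(P, P.basicOpen r) := U.2.isLocalization_basicOpen r
        obtain ⟨⟨a, ⟨_, N, rfl⟩⟩, hba⟩ := IsLocalization.surj (Submonoid.powers r) b
        have key : ∀ j, ∃ m : ℕ, ((g (C.idx j)).appLE U.1 _ (C.le j)).hom r ^ m *
            ((g (C.idx j)).appLE U.1 _ (C.le j)).hom a ∈ (I (C.idx j)).ideal (C.V j) := by
          intro j
          let φ := ((g (C.idx j)).appLE U.1 _ (C.le j)).hom
          let W := (Q (C.idx j)).affineBasicOpen (U := C.V j) (φ r)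
          have eW : W.1 ≤ g (C.idx j) ⁻¹ᵁ P.basicOpen r := fun x hx ↦ by
            have hx' : x ∈ (Q (C.idx j)).basicOpen (φ r) := hx
            rw [Scheme.basicOpen_appLE] at hx'
            exact hx'.2
          let resV := ((Q (C.idx j)).presheaf.map (homOfLE ((Q (C.idx j)).basicOpen_le (φ r))).op).hom
          let : Algebra Γ(Q (C.idx j), (C.V j).1) Γ(Q (C.idx j), (Q (C.idx j)).basicOpen (φ r)) :=
            resV.toAlgebra
          have : IsLocalization.Away (φ r) Γ(Q (C.idx j), (Q (C.idx j)).basicOpen (φ r)) :=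
            (C.V j).2.isLocalization_basicOpen (φ r)
          have h1 : ((g (C.idx j)).appLE (P.basicOpen r) W.1 eW).hom (b * res (r ^ N)) ∈
              (I (C.idx j)).ideal W :=
            (map_mul ((g (C.idx j)).appLE (P.basicOpen r) W.1 eW).hom b (res (r ^ N))).symm ▸
              Ideal.mul_mem_right _ _ (mem_descIdeal.mp hb (C.idx j) W eW)
          rw [show b * res (r ^ N) = res a from hba] at h1
          have hnat : ((g (C.idx j)).appLE (P.basicOpen r) W.1 eW).hom (res a) = resV (φ a) := by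
            simp only [res, resV, φ, ← CommRingCat.comp_apply, Scheme.Hom.map_appLE,
              Scheme.Hom.appLE_map]
            rfl
          rw [hnat, ← (I (C.idx j)).map_ideal_basicOpen (C.V j) (φ r)] at h1
          obtain ⟨_, ⟨m, rfl⟩, hm⟩ :=
            (IsLocalization.algebraMap_mem_map_algebraMap_iff (Submonoid.powers (φ r))
              Γ(Q (C.idx j), (Q (C.idx j)).basicOpen (φ r)) ((I (C.idx j)).ideal (C.V j)) (φ a)).mp h1
          exact ⟨m, hm⟩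
        choose m hm using key
        let M := Finset.univ.sup m
        have hMa : r ^ M * a ∈ descIdeal g I U := mem_descIdeal_of_pieces hg I h C _ fun j ↦ by
          rw [map_mul, map_pow, ← Nat.sub_add_cancel
            (show m j ≤ M from Finset.le_sup (f := m) (Finset.mem_univ j)), pow_add, mul_assoc]
          exact Ideal.mul_mem_left _ _ (hm j)
        have h2 := Ideal.mem_map_of_mem res hMa
        have hu : IsUnit (res (r ^ (M + N))) :=
          IsLocalization.map_units Γ(P, P.basicOpen r) (⟨r ^ (M + N), M + N, rfl⟩ : Submonoid.powers r)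
        have h3 : res (r ^ M * a) = res (r ^ (M + N)) * b := by
          rw [map_mul, show res a = b * res (r ^ N) from hba.symm, pow_add, map_mul]
          ring
        rw [h3] at h2
        exact (Ideal.unit_mul_mem_iff_mem _ hu).mp h2 }
  refine ⟨K, fun i ↦ ?_, fun J' hJ' ↦ ?_⟩
  · refine Scheme.IdealSheafData.ext_of_iSup_eq_top
      (fun p : {p : (Q i).affineOpens × P.affineOpens // p.1.1 ≤ g i ⁻¹ᵁ p.2.1} ↦ p.1.1) ?_
      fun ⟨⟨V, U⟩, e⟩ ↦ ?_
    · refine top_le_iff.mp fun x _ ↦ ?_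
      obtain ⟨U, hU, hxU, -⟩ := Opens.isBasis_iff_nbhd.mp P.isBasis_affineOpens
        (Opens.mem_top (g i x))
      obtain ⟨V, hV, hxV, hVle⟩ := Opens.isBasis_iff_nbhd.mp (Q i).isBasis_affineOpens
        (show x ∈ g i ⁻¹ᵁ U from hxU)
      exact Opens.mem_iSup.mpr ⟨⟨(⟨V, hV⟩, ⟨U, hU⟩), hVle⟩, hxV⟩
    · rw [ideal_comap_appLE K (g i) U V e]
      exact ideal_eq_map_descIdeal hg I h U i V e
  · refine Scheme.IdealSheafData.ext (funext fun U ↦ le_antisymm (fun a ha ↦ ?_) fun a ha ↦ ?_)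
    · refine mem_descIdeal.mpr fun i V e ↦ ?_
      rw [← hJ' i, ideal_comap_appLE J' (g i) U V e]
      exact Ideal.mem_map_of_mem _ ha
    · obtain ⟨C⟩ := exists_pieces hg U
      refine mem_of_flat_cover' U (fun j : ULift.{u} (Fin C.n) ↦ Q (C.idx j.down)) (fun j ↦ C.V j.down)
        (fun j ↦ g (C.idx j.down)) (fun j ↦ C.le j.down) (fun y hy ↦ ?_) _ a fun j ↦ ?_
      · obtain ⟨j, w, hw, he⟩ := C.cov y hy
        exact ⟨⟨j⟩, w, hw, he⟩
      · rw [← ideal_comap_appLE J' _ U (C.V j.down) (C.le j.down), hJ']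
        exact mem_descIdeal.mp ha _ _ _

end glue

end Groth.Agent.FpqcDescent
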