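import Groth.Prelude.Def_DescFam

/-! # Descent data all of whose members are monomorphisms -/

universe u

open CategoryTheory CategoryTheory.Limits AlgebraicGeometry

namespace Groth.Agent.FpqcDescent

variable {S : Scheme.{u}} {ι : Type u} {X : ι → Scheme.{u}} {f : ∀ i, X i ⟶ S}

lemma lifts_subsingleton {Y T : Scheme.{u}} (V : Over Y) [Mono V.hom] (x : T ⟶ Y) :
    Subsingleton (Desc.Lifts V x) :=
  ⟨fun v w ↦ Subtype.ext ((cancel_mono V.hom).mp (v.2.trans w.2.symm))⟩

/-- A monomorphism to `S` pulling back to the members gives effectivity. -/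
theorem isEffective_of_mono (D : Desc.SchDDFam f) (U : Over S) [Mono U.hom]
    (hD : ∀ i, Mono (D.obj i).hom)
    (e : ∀ i, pullback (f i) U.hom ≅ (D.obj i).left)
    (he : ∀ i, (e i).hom ≫ (D.obj i).hom = pullback.fst (f i) U.hom) : D.IsEffective := by
  let E := (Desc.toDDFam f).obj U
  have hE : ∀ i, Mono (E.obj i).hom := fun i ↦ inferInstanceAs (Mono (pullback.fst (f i) U.hom))
  let a : E ⟶ D :=
    { hom := fun i ↦ Over.homMk (e i).hom (he i)
      comm := fun T i j x₀ x₁ h v w _ ↦ (cancel_mono (D.obj j).hom).mp (by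
        rw [(D.φ x₀ x₁ h w).2, Category.assoc]
        exact ((congrArg _ (he j)).trans (E.φ x₀ x₁ h v).2).symm) }
  let b : D ⟶ E :=
    { hom := fun i ↦ Over.homMk (e i).inv ((Iso.inv_comp_eq _).mpr (he i).symm)
      comm := fun T i j x₀ x₁ h v w _ ↦ (cancel_mono (E.obj j).hom).mp (by
        rw [(E.φ x₀ x₁ h w).2, Category.assoc]
        exact ((congrArg _ ((Iso.inv_comp_eq _).mpr (he j).symm)).trans (D.φ x₀ x₁ h v).2).symm) }
  refine ⟨U, ⟨a, b, ?_, ?_⟩⟩
  · exact Desc.SchDDFam.hom_ext (funext fun i ↦ Over.OverMorphism.ext (e i).hom_inv_id)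
  · exact Desc.SchDDFam.hom_ext (funext fun i ↦ Over.OverMorphism.ext (e i).inv_hom_id)

/-- membership of points in a descended monomorphism is the same on both projections -/
theorem exists_lift_snd (D : Desc.SchDDFam f) {T : Scheme.{u}} {i j : ι} (x₀ : T ⟶ X i) (x₁ : T ⟶ X j)
    (h : x₀ ≫ f i = x₁ ≫ f j) (v : T ⟶ (D.obj i).left) (hv : v ≫ (D.obj i).hom = x₀) :
    ∃ w : T ⟶ (D.obj j).left, w ≫ (D.obj j).hom = x₁ :=
  ⟨_, (D.φ x₀ x₁ h ⟨v, hv⟩).2⟩

end Groth.Agent.FpqcDescent
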